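import Mathlib

/-!
Finite-dimensional `sl₂`-triples in characteristic zero with semisimple `H`:
the Casimir element detects invariant vectors.
-/

set_option autoImplicit false

namespace Groth.Agent.Weitz

open Module Module.End

variable {k : Type*} [Field k] {V : Type*} [AddCommGroup V] [Module k V]

/-- An `sl₂`-triple of endomorphisms, pointwise form. -/
structure IsTriple (E F H : Module.End k V) : Prop where
  he : ∀ v, H (E v) = E (H v) + (2:k) • E v
  hf : ∀ v, H (F v) = F (H v) - (2:k) • F v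
  ef : ∀ v, E (F v) = F (E v) + H v

/-- The Casimir endomorphism. -/
def cas (E F H : Module.End k V) : Module.End k V :=
  H * H + (2:k) • H + (4:k) • (F * E)

variable {E F H : Module.End k V} (ht : IsTriple E F H)

include ht

lemma IsTriple.symm : IsTriple F E (-H) where
  he v := by simp [ht.hf]; module
  hf v := by simp [ht.he]; module
  ef v := by simp [ht.ef]

lemma cas_symm : cas F E (-H) = cas E F H := by
  ext v
  simp [cas, ht.ef]
  module

lemma cas_comm_e (v : V) : cas E F H (E v) = E (cas E F H v) := by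
  simp [cas, ht.he, ht.ef]
  module

lemma cas_comm_f (v : V) : cas E F H (F v) = F (cas E F H v) := by
  rw [← cas_symm ht]
  exact cas_comm_e ht.symm v

lemma cas_comm_h (v : V) : cas E F H (H v) = H (cas E F H v) := by
  simp [cas, ht.hf, ht.he]

lemma casPow_comm_e (n : ℕ) (v : V) : (cas E F H ^ n) (E v) = E ((cas E F H ^ n) v) := by
  induction n with
  | zero => simp
  | succ n ih => rw [pow_succ', Module.End.mul_apply, Module.End.mul_apply, ih, cas_comm_e ht]

lemma casPow_comm_h (n : ℕ) (v : V) : (cas E F H ^ n) (H v) = H ((cas E F H ^ n) v) := by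
  induction n with
  | zero => simp
  | succ n ih => rw [pow_succ', Module.End.mul_apply, Module.End.mul_apply, ih, cas_comm_h ht]

lemma casPow_comm_epow (n m : ℕ) (v : V) :
    (cas E F H ^ n) ((E ^ m) v) = (E ^ m) ((cas E F H ^ n) v) := by
  induction m with
  | zero => simp
  | succ m ih => rw [pow_succ', Module.End.mul_apply, Module.End.mul_apply, casPow_comm_e ht, ih]

lemma h_epow {μ : k} {v : V} (hv : H v = μ • v) (j : ℕ) :
    H ((E ^ j) v) = (μ + 2 * j) • (E ^ j) v := by
  induction j with
  | zero => simpa using hv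
  | succ j ih =>
    rw [pow_succ', Module.End.mul_apply, ht.he, ih, map_smul]
    push_cast
    module

lemma h_fpow {μ : k} {v : V} (hv : H v = μ • v) (j : ℕ) :
    H ((F ^ j) v) = (μ - 2 * j) • (F ^ j) v := by
  induction j with
  | zero => simpa using hv
  | succ j ih =>
    rw [pow_succ', Module.End.mul_apply, ht.hf, ih, map_smul]
    push_cast
    module

lemma e_fpow {μ : k} {v : V} (hv : H v = μ • v) (hev : E v = 0) (j : ℕ) :
    E ((F ^ (j + 1)) v) = (((j : k) + 1) * (μ - j)) • (F ^ j) v := by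
  induction j with
  | zero => simp [ht.ef, hev, hv]
  | succ j ih =>
    rw [pow_succ' F (j + 1), Module.End.mul_apply, ht.ef, ih, map_smul,
      ← Module.End.mul_apply F (F ^ j), ← pow_succ', h_fpow ht hv]
    push_cast
    module

variable [CharZero k] [FiniteDimensional k V]

lemma exists_fpow_eq_zero {μ : k} {v : V} (hv : H v = μ • v) :
    ∃ j, (F ^ j) v = 0 := by
  by_contra hne
  push Not at hne
  have hinj : Function.Injective (fun j : ℕ => μ - 2 * (j:k)) := by
    intro a b h
    have : (a:k) = b := by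
      have := h; simp at this; exact_mod_cast this
    exact_mod_cast this
  have hli := Module.End.eigenvectors_linearIndependent' H _ hinj (fun j => (F ^ j) v)
    (fun j => ⟨Module.End.mem_eigenspace_iff.2 (h_fpow ht hv j), hne j⟩)
  have := hli.finite_of_isNoetherian
  exact _root_.not_finite ℕ

lemma exists_nat_weight {μ : k} {v : V} (hne : v ≠ 0) (hev : E v = 0) (hv : H v = μ • v) :
    ∃ j : ℕ, μ = j ∧ (F ^ (j + 1)) v = 0 := by
  classical
  have hex := exists_fpow_eq_zero ht hv
  obtain ⟨m, hm⟩ : ∃ m, Nat.find hex = m + 1 := by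
    refine Nat.exists_eq_succ_of_ne_zero (fun h0 => hne ?_)
    have := Nat.find_spec hex
    rw [h0] at this
    simpa using this
  have h1 : (F ^ (m + 1)) v = 0 := hm ▸ Nat.find_spec hex
  have h2 : (F ^ m) v ≠ 0 := Nat.find_min hex (by omega)
  have h3 := e_fpow ht hv hev m
  rw [h1, map_zero] at h3
  rcases smul_eq_zero.1 h3.symm with h | h
  · rcases mul_eq_zero.1 h with h' | h'
    · exact absurd h' (Nat.cast_add_one_ne_zero m)
    · exact ⟨m, sub_eq_zero.1 h', h1⟩
  · exact absurd h h2

omit [FiniteDimensional k V] in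
lemma cas_highest {μ : k} {v : V} (hev : E v = 0) (hv : H v = μ • v) :
    cas E F H v = (μ * μ + 2 * μ) • v := by
  simp [cas, hev, hv]
  module

/-- A weight vector killed by a power of the Casimir has weight `-2j`, `j` the length of its `E`-string. -/
lemma weight_of_cas_nilp {μ : k} {v : V} {N : ℕ} (hne : v ≠ 0) (hv : H v = μ • v)
    (hC : (cas E F H ^ N) v = 0) :
    ∃ j : ℕ, μ = -(2 * j : k) ∧ (E ^ (j + 1)) v = 0 := by
  classical
  have hex : ∃ j, (E ^ j) v = 0 :=
    exists_fpow_eq_zero ht.symm (μ := -μ) (by simp [hv])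
  obtain ⟨m, hm⟩ : ∃ m, Nat.find hex = m + 1 := by
    refine Nat.exists_eq_succ_of_ne_zero (fun h0 => hne ?_)
    have := Nat.find_spec hex
    rw [h0] at this
    simpa using this
  have h1 : (E ^ (m + 1)) v = 0 := hm ▸ Nat.find_spec hex
  have h2 : (E ^ m) v ≠ 0 := Nat.find_min hex (by omega)
  refine ⟨m, ?_, h1⟩
  set w := (E ^ m) v with hw
  have hew : E w = 0 := by rw [hw, ← Module.End.mul_apply, ← pow_succ']; exact h1
  have hhw := h_epow ht hv m
  obtain ⟨j, hj, -⟩ := exists_nat_weight ht h2 hew hhw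
  have hCw : (cas E F H ^ N) w = 0 := by
    rw [hw, casPow_comm_epow ht, hC, map_zero]
  have key : ∀ n, (cas E F H ^ n) w
      = ((((μ + 2 * m) * (μ + 2 * m) + 2 * (μ + 2 * m))) ^ n) • w := by
    intro n
    induction n with
    | zero => simp
    | succ n ih =>
      rw [pow_succ', Module.End.mul_apply, ih, map_smul, cas_highest ht hew hhw, smul_smul,
        ← pow_succ]
  rw [key, smul_eq_zero, or_iff_left h2] at hCw
  have h0 := eq_zero_of_pow_eq_zero hCw
  rw [hj] at h0
  have : j = 0 := by
    have : j * j + 2 * j = 0 := by exact_mod_cast h0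
    omega
  subst this
  simp at hj
  linear_combination hj

/-- A weight vector killed by a power of the Casimir is invariant. -/
lemma inv_of_cas_nilp_eigen {μ : k} {v : V} {N : ℕ} (hv : H v = μ • v)
    (hC : (cas E F H ^ N) v = 0) : E v = 0 ∧ F v = 0 ∧ H v = 0 := by
  by_cases hne : v = 0
  · simp [hne]
  obtain ⟨a, ha, ha'⟩ := weight_of_cas_nilp ht hne hv hC
  obtain ⟨b, hb, hb'⟩ := weight_of_cas_nilp ht.symm (μ := -μ) hne (by simp [hv])
    (by rwa [cas_symm ht])
  have hab : ((2 * a + 2 * b : ℕ) : k) = 0 := by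
    push_cast
    linear_combination hb + ha
  have : 2 * a + 2 * b = 0 := by exact_mod_cast hab
  obtain ⟨rfl, rfl⟩ : a = 0 ∧ b = 0 := by omega
  refine ⟨by simpa using ha', by simpa using hb', ?_⟩
  rw [hv, ha]; simp

/-- Any vector killed by a power of the Casimir is invariant. -/
theorem inv_of_cas_nilp (hH : ⨆ μ : k, H.eigenspace μ = ⊤) {v : V} {N : ℕ}
    (hC : (cas E F H ^ N) v = 0) : E v = 0 ∧ F v = 0 ∧ H v = 0 := by
  have hstab : ∀ x ∈ LinearMap.ker (cas E F H ^ N), H x ∈ LinearMap.ker (cas E F H ^ N) := by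
    intro x hx
    rw [LinearMap.mem_ker] at hx ⊢
    rw [casPow_comm_h ht, hx, map_zero]
  have h := Submodule.inf_iSup_genEigenspace hstab 1
  rw [show (⨆ μ, H.genEigenspace μ 1) = ⊤ from hH, inf_top_eq] at h
  have hle : LinearMap.ker (cas E F H ^ N) ≤
      LinearMap.ker E ⊓ LinearMap.ker F ⊓ LinearMap.ker H := by
    rw [h]
    refine iSup_le fun μ x hx => ?_
    obtain ⟨e, f, g⟩ := inv_of_cas_nilp_eigen ht (Module.End.mem_eigenspace_iff.1 hx.2)
      (LinearMap.mem_ker.1 hx.1)
    exact ⟨⟨e, f⟩, g⟩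
  obtain ⟨⟨e, f⟩, g⟩ := hle (LinearMap.mem_ker.2 hC)
  exact ⟨e, f, g⟩

/-- The space splits as Casimir kernel plus Casimir image. -/
theorem exists_ker_add_range (hH : ⨆ μ : k, H.eigenspace μ = ⊤) (v : V) :
    ∃ u w, v = u + cas E F H w ∧ cas E F H u = 0 := by
  set C := cas E F H with hCdef
  have hdisj : Disjoint (LinearMap.ker C) (LinearMap.range C) := by
    rw [Submodule.disjoint_def]
    rintro x hx ⟨y, rfl⟩
    rw [LinearMap.mem_ker] at hx
    obtain ⟨e, f, g⟩ := inv_of_cas_nilp ht hH (v := y) (N := 2)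
      (by rw [pow_two, Module.End.mul_apply]; exact hx)
    simp [hCdef, cas, e, g]
  have hc : IsCompl (LinearMap.ker C) (LinearMap.range C) :=
    (Submodule.isCompl_iff_disjoint _ _
      (by rw [add_comm, LinearMap.finrank_range_add_finrank_ker])).2 hdisj
  obtain ⟨u, hu, r, ⟨w, rfl⟩, hv⟩ :=
    Submodule.mem_sup.1 (hc.sup_eq_top ▸ Submodule.mem_top (x := v))
  exact ⟨u, w, hv.symm, hu⟩

end Groth.Agent.Weitz
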