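import Mathlib
import Groth.Agent.Weitz.Sl2

/-!
The `sl₂`-action by derivations on polynomial rings in chain variables.
-/

set_option autoImplicit false

namespace Groth.Agent.Weitz

open MvPolynomial

noncomputable section

variable (k : Type*) [Field k] {ι : Type*} (e : ι → ℕ)

/-- The polynomial ring in the chain variables. -/
abbrev PR : Type _ := MvPolynomial (Σ i, Fin (e i)) k

/-- The `j`th variable in chain `i`, zero beyond the end. -/
def xv (i : ι) (j : ℕ) : PR k e :=
  if h : j < e i then X ⟨i, ⟨j, h⟩⟩ else 0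

lemma xv_of_lt {i : ι} {j : ℕ} (h : j < e i) : xv k e i j = X ⟨i, ⟨j, h⟩⟩ := dif_pos h

lemma xv_of_le {i : ι} {j : ℕ} (h : e i ≤ j) : xv k e i j = 0 := dif_neg (not_lt.2 h)

lemma xv_self (s : Σ i, Fin (e i)) : xv k e s.1 s.2 = X s := xv_of_lt k e s.2.2

/-- Raising derivation. -/
def dE : Derivation k (PR k e) (PR k e) :=
  mkDerivation k fun s => xv k e s.1 ((s.2 : ℕ) + 1)

/-- Weight derivation. -/
def dH : Derivation k (PR k e) (PR k e) :=
  mkDerivation k fun s => (2 * ((s.2 : ℕ) : k) + 1 - (e s.1 : k)) • xv k e s.1 s.2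

/-- Lowering derivation. -/
def dF : Derivation k (PR k e) (PR k e) :=
  mkDerivation k fun s => (((s.2 : ℕ) : k) * ((e s.1 : k) - (s.2 : ℕ))) • xv k e s.1 ((s.2 : ℕ) - 1)

lemma dE_xv (i : ι) (j : ℕ) : dE k e (xv k e i j) = xv k e i (j + 1) := by
  rcases lt_or_ge j (e i) with h | h
  · rw [xv_of_lt k e h, dE, mkDerivation_X]
  · rw [xv_of_le k e h, xv_of_le k e (by omega), map_zero]

lemma dH_xv (i : ι) (j : ℕ) :
    dH k e (xv k e i j) = (2 * (j : k) + 1 - (e i : k)) • xv k e i j := by
  rcases lt_or_ge j (e i) with h | h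
  · rw [xv_of_lt k e h, dH, mkDerivation_X, xv_self]
  · rw [xv_of_le k e h, map_zero, smul_zero]

lemma dF_xv (i : ι) (j : ℕ) :
    dF k e (xv k e i j) = ((j : k) * ((e i : k) - j)) • xv k e i (j - 1) := by
  rcases lt_or_ge j (e i) with h | h
  · rw [xv_of_lt k e h, dF, mkDerivation_X]
  · rw [xv_of_le k e h, map_zero]
    rcases eq_or_lt_of_le h with rfl | h'
    · simp
    · rw [xv_of_le k e (by omega), smul_zero]

lemma he_poly (p : PR k e) : dH k e (dE k e p) = dE k e (dH k e p) + (2 : k) • dE k e p := by
  have h : ⁅dH k e, dE k e⁆ = (2 : k) • dE k e := by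
    refine derivation_ext fun s => ?_
    rw [Derivation.commutator_apply, Derivation.smul_apply, ← xv_self k e s, dE_xv, dH_xv, dH_xv,
      Derivation.map_smul, dE_xv]
    push_cast
    module
  have := congrArg (fun D => D p) h
  simp only [Derivation.commutator_apply, Derivation.smul_apply] at this
  rw [← this]; abel

lemma hf_poly (p : PR k e) : dH k e (dF k e p) = dF k e (dH k e p) - (2 : k) • dF k e p := by
  have h : ⁅dH k e, dF k e⁆ = -((2 : k) • dF k e) := by
    refine derivation_ext fun s => ?_
    rw [Derivation.commutator_apply, Derivation.neg_apply, Derivation.smul_apply, ← xv_self k e s,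
      dF_xv, dH_xv, Derivation.map_smul, Derivation.map_smul, dH_xv, dF_xv]
    rcases Nat.eq_zero_or_pos (s.2 : ℕ) with h0 | h0
    · simp [h0]
    · rw [Nat.cast_sub h0]
      push_cast
      module
  have := congrArg (fun D => D p) h
  simp only [Derivation.commutator_apply, Derivation.smul_apply, Derivation.neg_apply] at this
  linear_combination (norm := abel) this

lemma ef_poly (p : PR k e) : dE k e (dF k e p) = dF k e (dE k e p) + dH k e p := by
  have h : ⁅dE k e, dF k e⁆ = dH k e := by
    refine derivation_ext fun s => ?_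
    rw [Derivation.commutator_apply, ← xv_self k e s, dF_xv, dH_xv, Derivation.map_smul, dE_xv,
      dE_xv, dF_xv]
    rcases Nat.eq_zero_or_pos (s.2 : ℕ) with h0 | h0
    · simp [h0]; module
    · rw [Nat.sub_add_cancel h0, Nat.add_sub_cancel]
      push_cast
      module
  have := congrArg (fun D => D p) h
  simp only [Derivation.commutator_apply] at this
  rw [← this]; abel

omit e in
lemma derivation_mem_homogeneous {σ : Type*} (D : Derivation k (MvPolynomial σ k) (MvPolynomial σ k))
    (hD : ∀ s, (D (X s)).IsHomogeneous 1) :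
    ∀ (d : ℕ) {p : MvPolynomial σ k}, p ∈ homogeneousSubmodule σ k d →
      D p ∈ homogeneousSubmodule σ k d
  | 0, p, hp => by
    rw [homogeneousSubmodule_zero, Submodule.mem_one] at hp
    obtain ⟨a, rfl⟩ := hp
    rw [D.map_algebraMap]
    exact zero_mem _
  | d + 1, p, hp => by
    rw [← homogeneousSubmodule_one_pow (σ := σ) (R := k) (d + 1), pow_succ,
      homogeneousSubmodule_one_pow] at hp
    induction hp using Submodule.mul_induction_on' with
    | mem_mul_mem a ha b hb =>
      rw [D.leibniz]
      refine add_mem ?_ ?_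
      · have h1 : D b ∈ homogeneousSubmodule σ k 1 := by
          rw [homogeneousSubmodule_one_eq_span_X] at hb
          induction hb using Submodule.span_induction with
          | mem x hx => obtain ⟨s, rfl⟩ := hx; exact hD s
          | zero => rw [map_zero]; exact zero_mem _
          | add x y _ _ hx hy => rw [map_add]; exact add_mem hx hy
          | smul c x _ hx => rw [Derivation.map_smul]; exact Submodule.smul_mem _ c hx
        exact homogeneousSubmodule_mul d 1 (Submodule.mul_mem_mul ha h1)
      · have := homogeneousSubmodule_mul 1 d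
          (Submodule.mul_mem_mul hb (derivation_mem_homogeneous D hD d ha))
        rwa [add_comm 1 d] at this
    | add x _ y _ hx hy => rw [map_add]; exact add_mem hx hy

lemma xv_homogeneous (i : ι) (j : ℕ) : xv k e i j ∈ homogeneousSubmodule (Σ i, Fin (e i)) k 1 := by
  rw [xv]; split_ifs
  · exact isHomogeneous_X _ _
  · exact zero_mem _

lemma dE_homog {d : ℕ} {p : PR k e} (hp : p ∈ homogeneousSubmodule _ k d) :
    dE k e p ∈ homogeneousSubmodule _ k d := by
  refine derivation_mem_homogeneous k _ (fun s => ?_) d hp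
  rw [← xv_self k e s, dE_xv]; exact xv_homogeneous k e _ _

lemma dH_homog {d : ℕ} {p : PR k e} (hp : p ∈ homogeneousSubmodule _ k d) :
    dH k e p ∈ homogeneousSubmodule _ k d := by
  refine derivation_mem_homogeneous k _ (fun s => ?_) d hp
  rw [← xv_self k e s, dH_xv]; exact Submodule.smul_mem _ _ (xv_homogeneous k e _ _)

lemma dF_homog {d : ℕ} {p : PR k e} (hp : p ∈ homogeneousSubmodule _ k d) :
    dF k e p ∈ homogeneousSubmodule _ k d := by
  refine derivation_mem_homogeneous k _ (fun s => ?_) d hp
  rw [← xv_self k e s, dF_xv]; exact Submodule.smul_mem _ _ (xv_homogeneous k e _ _)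

lemma derivation_comp_homogeneousComponent {σ : Type*}
    (D : Derivation k (MvPolynomial σ k) (MvPolynomial σ k))
    (hD : ∀ s, (D (X s)).IsHomogeneous 1) (d : ℕ) (p : MvPolynomial σ k) :
    homogeneousComponent d (D p) = D (homogeneousComponent d p) := by
  classical
  conv_lhs => rw [← sum_homogeneousComponent p, map_sum, map_sum]
  conv_rhs => rw [← sum_homogeneousComponent p, map_sum, map_sum]
  refine Finset.sum_congr rfl fun i _ => ?_
  rw [homogeneousComponent_of_mem (homogeneousComponent_mem i p),
    homogeneousComponent_of_mem (derivation_mem_homogeneous k D hD i (homogeneousComponent_mem i p))]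
  split_ifs <;> simp

/-- Every monomial is a weight vector. -/
lemma monomial_weight (m : (Σ i, Fin (e i)) →₀ ℕ) :
    ∃ μ : k, dH k e (monomial m 1) = μ • (monomial m 1 : PR k e) := by
  induction m using Finsupp.induction with
  | zero => exact ⟨0, by simp⟩
  | single_add s n m _ _ ih =>
    obtain ⟨μ, hμ⟩ := ih
    refine ⟨μ + n * (2 * ((s.2 : ℕ) : k) + 1 - (e s.1 : k)), ?_⟩
    rw [monomial_single_add, Derivation.leibniz, Derivation.leibniz_pow, hμ]
    conv_lhs => rw [← xv_self k e s, dH_xv, xv_self]
    rcases n with _ | n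
    · simp
    · simp only [smul_eq_mul, Nat.add_sub_cancel, nsmul_eq_mul, Nat.cast_smul_eq_nsmul,
        Algebra.smul_def, map_add, map_mul, map_natCast, eq_natCast, pow_succ]
      push_cast
      ring

/-- The raising operator on forms of degree `d`. -/
def eE (d : ℕ) : Module.End k (homogeneousSubmodule (Σ i, Fin (e i)) k d) :=
  LinearMap.restrict (dE k e).toLinearMap fun _ hp => dE_homog k e hp

/-- The lowering operator on forms of degree `d`. -/
def eF (d : ℕ) : Module.End k (homogeneousSubmodule (Σ i, Fin (e i)) k d) :=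
  LinearMap.restrict (dF k e).toLinearMap fun _ hp => dF_homog k e hp

/-- The weight operator on forms of degree `d`. -/
def eH (d : ℕ) : Module.End k (homogeneousSubmodule (Σ i, Fin (e i)) k d) :=
  LinearMap.restrict (dH k e).toLinearMap fun _ hp => dH_homog k e hp

@[simp] lemma eE_coe {d : ℕ} (v : homogeneousSubmodule (Σ i, Fin (e i)) k d) :
    (eE k e d v : PR k e) = dE k e v := rfl
@[simp] lemma eF_coe {d : ℕ} (v : homogeneousSubmodule (Σ i, Fin (e i)) k d) :
    (eF k e d v : PR k e) = dF k e v := rfl
@[simp] lemma eH_coe {d : ℕ} (v : homogeneousSubmodule (Σ i, Fin (e i)) k d) :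
    (eH k e d v : PR k e) = dH k e v := rfl

lemma eFpow_coe {d : ℕ} (n : ℕ) (v : homogeneousSubmodule (Σ i, Fin (e i)) k d) :
    ((eF k e d ^ n) v : PR k e) = ((dF k e).toLinearMap ^ n) v := by
  induction n with
  | zero => rfl
  | succ n ih => rw [pow_succ', pow_succ', Module.End.mul_apply, Module.End.mul_apply, eF_coe, ih]; rfl

lemma isTriple (d : ℕ) : IsTriple (eE k e d) (eF k e d) (eH k e d) where
  he v := Subtype.ext (by simp [he_poly])
  hf v := Subtype.ext (by simp [hf_poly])
  ef v := Subtype.ext (by simp [ef_poly])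

lemma eigen_top (d : ℕ) : ⨆ μ : k, (eH k e d).eigenspace μ = ⊤ := by
  rw [eq_top_iff]
  rintro ⟨p, hp⟩ -
  have hsp : p ∈ Submodule.map (homogeneousSubmodule (Σ i, Fin (e i)) k d).subtype
      (⨆ μ : k, (eH k e d).eigenspace μ) := by
    rw [p.as_sum]
    refine Submodule.sum_mem _ fun m hm => ?_
    have hmd : m.degree = d := by
      by_contra h
      exact mem_support_iff.1 hm (IsHomogeneous.coeff_eq_zero hp h)
    obtain ⟨μ, hμ⟩ := monomial_weight k e m
    refine ⟨coeff m p • ⟨monomial m 1, isHomogeneous_monomial 1 hmd⟩, ?_, by simp [smul_monomial]⟩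
    refine Submodule.smul_mem _ _ (Submodule.mem_iSup_of_mem μ ?_)
    exact Module.End.mem_eigenspace_iff.2 (Subtype.ext hμ)
  obtain ⟨q, hq, rfl⟩ := hsp
  exact hq

end

end Groth.Agent.Weitz
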