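import Mathlib
import Groth.Agent.Weitz.Poly

/-!
Hilbert's finiteness argument for the `sl₂`-invariants.
-/

set_option autoImplicit false

namespace Groth.Agent.Weitz

open MvPolynomial

noncomputable section

variable (k : Type*) [Field k] {ι : Type*} (e : ι → ℕ)

/-- The invariant subalgebra. -/
def inv : Subalgebra k (PR k e) where
  carrier := {p | dE k e p = 0 ∧ dF k e p = 0}
  mul_mem' := fun {a b} ha hb => by
    refine ⟨?_, ?_⟩
    · rw [Derivation.leibniz, ha.1, hb.1]; simp
    · rw [Derivation.leibniz, ha.2, hb.2]; simp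
  add_mem' := fun {a b} ha hb => ⟨by rw [map_add, ha.1, hb.1, add_zero],
    by rw [map_add, ha.2, hb.2, add_zero]⟩
  algebraMap_mem' r := ⟨(dE k e).map_algebraMap r, (dF k e).map_algebraMap r⟩

lemma mem_inv {p : PR k e} : p ∈ inv k e ↔ dE k e p = 0 ∧ dF k e p = 0 := Iff.rfl

lemma dH_of_mem_inv {p : PR k e} (hp : p ∈ inv k e) : dH k e p = 0 := by
  have h := ef_poly k e p
  rw [hp.1, hp.2, map_zero, map_zero, zero_add] at h
  exact h.symm

lemma comp_mem_inv {p : PR k e} (hp : p ∈ inv k e) (d : ℕ) :
    homogeneousComponent d p ∈ inv k e := by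
  refine ⟨?_, ?_⟩
  · rw [← derivation_comp_homogeneousComponent k _ (fun s => ?_), hp.1, map_zero]
    rw [← xv_self k e s, dE_xv]; exact xv_homogeneous k e _ _
  · rw [← derivation_comp_homogeneousComponent k _ (fun s => ?_), hp.2, map_zero]
    rw [← xv_self k e s, dF_xv]; exact Submodule.smul_mem _ _ (xv_homogeneous k e _ _)

/-- The Casimir operator on polynomials. -/
def casP : PR k e →ₗ[k] PR k e :=
  (dH k e).toLinearMap ∘ₗ (dH k e).toLinearMap + (2 : k) • (dH k e).toLinearMap
    + (4 : k) • ((dF k e).toLinearMap ∘ₗ (dE k e).toLinearMap)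

lemma casP_apply (p : PR k e) : casP k e p
    = dH k e (dH k e p) + (2 : k) • dH k e p + (4 : k) • dF k e (dE k e p) := rfl

lemma cas_coe {d : ℕ} (v : homogeneousSubmodule (Σ i, Fin (e i)) k d) :
    (cas (eE k e d) (eF k e d) (eH k e d) v : PR k e) = casP k e v := by
  simp [cas, casP_apply]

lemma casP_homog {d : ℕ} {p : PR k e} (hp : p ∈ homogeneousSubmodule _ k d) :
    casP k e p ∈ homogeneousSubmodule _ k d :=
  (cas_coe k e ⟨p, hp⟩) ▸ (cas (eE k e d) (eF k e d) (eH k e d) ⟨p, hp⟩).2

lemma casP_mul_inv {u : PR k e} (hu : u ∈ inv k e) (p : PR k e) :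
    casP k e (p * u) = casP k e p * u := by
  have hH := dH_of_mem_inv k e hu
  simp [casP_apply, Derivation.leibniz, hu.1, hu.2, hH, smul_eq_mul, MvPolynomial.smul_eq_C_mul]
  ring

lemma hc_mul {σ : Type*} (a : MvPolynomial σ k) {g : MvPolynomial σ k} {m : ℕ}
    (hg : g.IsHomogeneous m) (d : ℕ) :
    homogeneousComponent d (a * g) = if m ≤ d then homogeneousComponent (d - m) a * g else 0 := by
  classical
  suffices ∀ n (q : MvPolynomial σ k), q.IsHomogeneous n →
      homogeneousComponent d (q * g) = if m ≤ d then homogeneousComponent (d - m) q * g else 0 by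
    conv_lhs => rw [← sum_homogeneousComponent a, Finset.sum_mul, map_sum]
    rw [Finset.sum_congr rfl fun i _ => this i _ (homogeneousComponent_isHomogeneous i a)]
    split_ifs with h
    · rw [← Finset.sum_mul, ← map_sum, sum_homogeneousComponent]
    · simp
  intro n q hq
  rw [homogeneousComponent_of_mem (hq.mul hg), homogeneousComponent_of_mem hq]
  by_cases h : m ≤ d
  · rw [if_pos h]
    by_cases h' : d = n + m
    · rw [if_pos h', if_pos (by omega)]
    · rw [if_neg h', if_neg (by omega), zero_mul]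
  · rw [if_neg h, if_neg (by omega)]

variable [CharZero k] [Fintype ι]

instance (d : ℕ) : Module.Finite k (homogeneousSubmodule (Σ i, Fin (e i)) k d) :=
  Module.Finite.iff_fg.2 (homogeneousSubmodule_fg _ k d)

lemma inv_of_casP {d : ℕ} {p : PR k e} (hp : p ∈ homogeneousSubmodule _ k d)
    (h : casP k e (casP k e p) = 0) : p ∈ inv k e := by
  have h2 : (cas (eE k e d) (eF k e d) (eH k e d) ^ 2) ⟨p, hp⟩ = 0 := by
    rw [pow_two, Module.End.mul_apply]
    exact Subtype.ext (by rw [cas_coe, cas_coe]; exact h)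
  obtain ⟨he, hf, -⟩ := inv_of_cas_nilp (isTriple k e d) (eigen_top k e d) h2
  exact ⟨congrArg Subtype.val he, congrArg Subtype.val hf⟩

lemma casP_of_inv {p : PR k e} (hp : p ∈ inv k e) : casP k e p = 0 := by
  simp [casP_apply, hp.1, dH_of_mem_inv k e hp]

lemma exists_inv_add_cas {d : ℕ} {p : PR k e} (hp : p ∈ homogeneousSubmodule _ k d) :
    ∃ u w, u ∈ homogeneousSubmodule _ k d ∧ w ∈ homogeneousSubmodule _ k d ∧
      p = u + casP k e w ∧ u ∈ inv k e := by
  obtain ⟨u, w, huw, hu⟩ := exists_ker_add_range (isTriple k e d) (eigen_top k e d) ⟨p, hp⟩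
  refine ⟨u, w, u.2, w.2, ?_, ?_⟩
  · have := congrArg Subtype.val huw
    simpa [cas_coe] using this
  · refine inv_of_casP k e u.2 ?_
    have := congrArg Subtype.val hu
    rw [cas_coe] at this
    rw [this]; simp

/-- Homogeneous invariants of positive degree. -/
def invGens : Set (PR k e) :=
  {g | ∃ m, 0 < m ∧ g.IsHomogeneous m ∧ g ∈ inv k e}

/-- The algebra of invariants is finitely generated. -/
theorem inv_fg : (inv k e).FG := by
  classical
  obtain ⟨G, hG, hJ⟩ := (Submodule.fg_span_iff_fg_span_finset_subset (invGens k e)).1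
    (IsNoetherian.noetherian (Ideal.span (invGens k e)))
  have hdeg : ∀ g ∈ G, ∃ m, 0 < m ∧ g.IsHomogeneous m ∧ g ∈ inv k e := fun g hg => hG hg
  choose! δ hδ0 hδh hδi using hdeg
  refine ⟨G, le_antisymm (Algebra.adjoin_le fun g hg => hδi g hg) ?_⟩
  have key : ∀ (d : ℕ) (p : PR k e), p.IsHomogeneous d → p ∈ inv k e →
      p ∈ Algebra.adjoin k (G : Set (PR k e)) := by
    intro d
    induction d using Nat.strong_induction_on with
    | _ d IH =>
      intro p hp hpi
      rcases Nat.eq_zero_or_pos d with rfl | hd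
      · rw [← homogeneousComponent_eq_self hp, homogeneousComponent_zero]
        exact Subalgebra.algebraMap_mem _ _
      have hpJ : p ∈ Submodule.span (PR k e) (invGens k e) :=
        Submodule.subset_span ⟨d, hd, hp, hpi⟩
      rw [hJ, Submodule.mem_span_finset'] at hpJ
      obtain ⟨a, ha⟩ := hpJ
      let a' : G → PR k e := fun g =>
        if δ g ≤ d then homogeneousComponent (d - δ g) (a g) else 0
      have hpa : p = ∑ g : G, a' g * g := by
        rw [← homogeneousComponent_eq_self hp, ← ha, map_sum]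
        refine Finset.sum_congr rfl fun g _ => ?_
        rw [smul_eq_mul, hc_mul k (a g) (hδh g g.2) d]
        simp only [a']; split_ifs <;> simp
      have hdec : ∀ g : G, ∃ u w, u ∈ homogeneousSubmodule _ k (d - δ g) ∧
          w ∈ homogeneousSubmodule _ k (d - δ g) ∧ a' g = u + casP k e w ∧ u ∈ inv k e ∧
          (¬ δ g ≤ d → u = 0 ∧ w = 0) := by
        intro g
        by_cases h : δ g ≤ d
        · obtain ⟨u, w, h1, h2, h3, h4⟩ := exists_inv_add_cas k e
            (homogeneousComponent_mem (d - δ g) (a g))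
          exact ⟨u, w, h1, h2, by simp only [a', if_pos h]; exact h3, h4, fun h' => absurd h h'⟩
        · exact ⟨0, 0, zero_mem _, zero_mem _, by simp [a', if_neg h], zero_mem _,
            fun _ => ⟨rfl, rfl⟩⟩
      choose u w hu hw huw hui hz using hdec
      let z := ∑ g : G, w g * g
      have hz_mem : z ∈ homogeneousSubmodule _ k d := by
        refine Submodule.sum_mem _ fun g _ => ?_
        by_cases h : δ g ≤ d
        · have := IsHomogeneous.mul (hw g) (hδh g g.2)
          rwa [Nat.sub_add_cancel h] at this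
        · rw [(hz g h).2, zero_mul]; exact zero_mem _
      have hcz : casP k e z = p - ∑ g : G, u g * g := by
        rw [hpa, map_sum, ← Finset.sum_sub_distrib]
        refine Finset.sum_congr rfl fun g _ => ?_
        rw [casP_mul_inv k e (hδi g g.2), huw g]; ring
      have hsum : (∑ g : G, u g * g) ∈ inv k e :=
        sum_mem fun g _ => mul_mem (hui g) (hδi g g.2)
      have hzi : z ∈ inv k e :=
        inv_of_casP k e hz_mem (casP_of_inv k e (hcz ▸ sub_mem hpi hsum))
      rw [casP_of_inv k e hzi, eq_comm, sub_eq_zero] at hcz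
      rw [hcz]
      refine sum_mem fun g _ => mul_mem ?_ (Algebra.subset_adjoin g.2)
      by_cases h : δ g ≤ d
      · exact IH (d - δ g) (by have := hδ0 g g.2; omega) _ (hu g) (hui g)
      · rw [(hz g h).1]; exact zero_mem _
  intro p hp
  rw [← sum_homogeneousComponent p]
  exact sum_mem fun i _ => key i _ (homogeneousComponent_isHomogeneous i p) (comp_mem_inv k e hp i)

end

end Groth.Agent.Weitz
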