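import Mathlib

/-!
Jordan chains of a nilpotent endomorphism.
-/

set_option autoImplicit false

namespace Groth.Agent.Weitz

open Module Polynomial DirectSum

variable {k : Type*} [Field k] {V : Type*} [AddCommGroup V] [Module k V] [FiniteDimensional k V]

lemma dfinsupp_basis_apply {ι : Type*} [DecidableEq ι] {R : Type*} [Semiring R] {M : ι → Type*}
    [∀ i, AddCommMonoid (M i)] [∀ i, Module R (M i)] {η : ι → Type*}
    (b : ∀ i, Basis (η i) R (M i)) (i : ι) (j : η i) :
    DFinsupp.basis b ⟨i, j⟩ = DFinsupp.single i (b i j) := by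
  apply (DFinsupp.basis b).repr.injective
  rw [Basis.repr_self]
  show _ = (sigmaFinsuppLequivDFinsupp R).symm
    (DFinsupp.mapRange.linearEquiv (fun i => (b i).repr) (DFinsupp.single i (b i j)))
  rw [LinearEquiv.eq_symm_apply]
  show _ = DFinsupp.mapRange (fun i x => (b i).repr x) (fun i => map_zero _) (DFinsupp.single i (b i j))
  simp

/-- A nilpotent endomorphism of a finite-dimensional space has a basis made of chains. -/
theorem exists_jordan (T : Module.End k V) (hT : IsNilpotent T) :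
    ∃ (d : ℕ) (e : Fin d → ℕ) (b : Basis (Σ i, Fin (e i)) k V), ∀ (i : Fin d) (j : Fin (e i)),
      T (b ⟨i, j⟩) = if h : (j : ℕ) + 1 < e i then b ⟨i, ⟨j + 1, h⟩⟩ else 0 := by
  classical
  obtain ⟨N, hN⟩ := hT
  have htor : Module.IsTorsion' (AEval' T) (Submonoid.powers (X : k[X])) := by
    intro x
    obtain ⟨v, rfl⟩ := (AEval'.of T).surjective x
    refine ⟨⟨X ^ N, N, rfl⟩, ?_⟩
    show (X : k[X]) ^ N • AEval'.of T v = 0
    rw [AEval'.X_pow_smul_of, hN]; simp
  obtain ⟨d, e, ⟨f⟩⟩ := Module.torsion_by_prime_power_decomposition (p := (X : k[X]))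
    Polynomial.irreducible_X htor
  refine ⟨d, e, ?_⟩
  let bA : ∀ i, Basis (Fin (e i)) k (AdjoinRoot ((X : k[X]) ^ e i)) := fun i =>
    (AdjoinRoot.powerBasisAux' (Polynomial.monic_X_pow (R := k) (e i))).reindex
      (finCongr (Polynomial.natDegree_X_pow (R := k) (e i)))
  have hbA : ∀ i (j : Fin (e i)), bA i j = AdjoinRoot.mk _ ((X : k[X]) ^ (j : ℕ)) := by
    intro i j
    have h := (AdjoinRoot.powerBasis' (Polynomial.monic_X_pow (R := k) (e i))).basis_eq_pow
    simp only [bA, Basis.reindex_apply]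
    refine (h _).trans ?_
    rw [AdjoinRoot.powerBasis'_gen, ← AdjoinRoot.mk_X, ← map_pow]
    rfl
  let b₀ : ∀ i, Basis (Fin (e i)) k (k[X] ⧸ (k[X] ∙ (X : k[X]) ^ e i)) := bA
  have hb₀ : ∀ i (j : Fin (e i)), b₀ i j = Submodule.Quotient.mk ((X : k[X]) ^ (j : ℕ)) := hbA
  let g : V ≃ₗ[k] (Π₀ i, k[X] ⧸ (k[X] ∙ (X : k[X]) ^ e i)) :=
    (AEval'.of T).trans (f.restrictScalars k)
  let b : Basis (Σ i, Fin (e i)) k V := (DFinsupp.basis b₀).map g.symm
  have hb : ∀ i (j : Fin (e i)), AEval'.of T (b ⟨i, j⟩)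
      = f.symm (DirectSum.lof k[X] (Fin d) (fun i => k[X] ⧸ (k[X] ∙ (X : k[X]) ^ e i)) i
          (Submodule.Quotient.mk ((X : k[X]) ^ (j : ℕ)))) := by
    intro i j
    have := dfinsupp_basis_apply b₀ i j
    simp only [b, Basis.map_apply, g, this, hb₀]
    simp
    rfl
  refine ⟨b, fun i j => ?_⟩
  apply (AEval'.of T).injective
  rw [← AEval'.X_smul_of, hb, ← map_smul, ← map_smul, ← Submodule.Quotient.mk_smul, smul_eq_mul,
    ← pow_succ']
  split_ifs with h
  · rw [hb]
  · have : (j : ℕ) + 1 = e i := by omega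
    rw [this, map_zero, (Submodule.Quotient.mk_eq_zero _).2 (Submodule.mem_span_singleton_self _),
      map_zero, map_zero]

end Groth.Agent.Weitz
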