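import Mathlib
import Groth.Agent.Weitz.Inv
import Groth.Agent.Weitz.Jordan

/-!
Weitzenböck's theorem: the kernel of a linear locally nilpotent derivation is finitely generated.
-/

set_option autoImplicit false

namespace Groth.Agent.Weitz

open MvPolynomial

noncomputable section

variable {k : Type*} [Field k] {ι : Type*} (e : ι → ℕ)

/-- Chain lengths with an extra chain of length two. -/
abbrev ext (e : ι → ℕ) : Option ι → ℕ
  | none => 2
  | some i => e i

/-- Inclusion of the variables. -/
def emb (s : Σ i, Fin (e i)) : Σ i, Fin (ext e i) := ⟨some s.1, s.2⟩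

/-- Inclusion of the polynomial rings. -/
def inc : PR k e →ₐ[k] PR k (ext e) := rename (emb e)

/-- Evaluation at the point `(1, 0)` of the extra chain. -/
def ev : PR k (ext e) →ₐ[k] PR k e :=
  aeval fun s => match s with
    | ⟨some i, j⟩ => X ⟨i, j⟩
    | ⟨none, j⟩ => if (j : ℕ) = 0 then 1 else 0

lemma inc_xv (i : ι) (j : ℕ) : inc e (xv k e i j) = xv k (ext e) (some i) j := by
  rcases lt_or_ge j (e i) with h | h
  · rw [xv_of_lt k e h, xv_of_lt k (ext e) (i := some i) h, inc, rename_X]; rfl
  · rw [xv_of_le k e h, xv_of_le k (ext e) (i := some i) h, map_zero]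

lemma ev_xv (i : ι) (j : ℕ) : ev e (xv k (ext e) (some i) j) = xv k e i j := by
  rcases lt_or_ge j (e i) with h | h
  · rw [xv_of_lt k e h, xv_of_lt k (ext e) (i := some i) h, ev, aeval_X]
  · rw [xv_of_le k e h, xv_of_le k (ext e) (i := some i) h, map_zero]

lemma ev_inc (p : PR k e) : ev e (inc e p) = p := by
  rw [inc, ev, aeval_rename]
  exact (aeval_X_left_apply p)

/-- Compatibility of derivations along an algebra map is checked on variables. -/
lemma derivation_comm {σ τ : Type*} (D : Derivation k (MvPolynomial σ k) (MvPolynomial σ k))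
    (D' : Derivation k (MvPolynomial τ k) (MvPolynomial τ k))
    (φ : MvPolynomial σ k →ₐ[k] MvPolynomial τ k) (h : ∀ s, φ (D (X s)) = D' (φ (X s)))
    (p : MvPolynomial σ k) : φ (D p) = D' (φ p) := by
  induction p using MvPolynomial.induction_on with
  | C a =>
    rw [← algebraMap_eq, D.map_algebraMap, AlgHom.commutes, D'.map_algebraMap, map_zero]
  | add p q hp hq => rw [map_add, map_add, map_add, map_add, hp, hq]
  | mul_X p i hp => simp [Derivation.leibniz, map_mul, hp, h]

lemma inc_dE (p : PR k e) : inc e (dE k e p) = dE k (ext e) (inc e p) := by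
  refine derivation_comm _ _ (inc e) (fun s => ?_) p
  rw [← xv_self k e s, dE_xv, inc_xv, inc_xv, dE_xv]

lemma inc_dF (p : PR k e) : inc e (dF k e p) = dF k (ext e) (inc e p) := by
  refine derivation_comm _ _ (inc e) (fun s => ?_) p
  rw [← xv_self k e s, dF_xv, inc_xv, map_smul, inc_xv, dF_xv]

/-- The first extra variable. -/
def yv : PR k (ext e) := xv k (ext e) none 0

/-- The second extra variable. -/
def xvar : PR k (ext e) := xv k (ext e) none 1

lemma dE_yv : dE k (ext e) (yv e) = xvar e := dE_xv _ _ _ _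
lemma dE_xvar : dE k (ext e) (xvar e) = 0 := by
  rw [xvar, dE_xv, xv_of_le]; exact le_rfl
lemma dF_yv : dF k (ext e) (yv e) = 0 := by
  rw [yv, dF_xv]; simp
lemma dF_xvar : dF k (ext e) (xvar e) = yv e := by
  rw [xvar, dF_xv, yv]; norm_num [ext]

lemma ev_yv : ev e (yv (k := k) e) = 1 := by
  rw [yv, xv_of_lt k (ext e) (i := none) (j := 0) Nat.two_pos, ev, aeval_X]; rfl
lemma ev_xvar : ev e (xvar (k := k) e) = 0 := by
  rw [xvar, xv_of_lt k (ext e) (i := none) (j := 1) Nat.one_lt_two, ev, aeval_X]; rfl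

lemma ev_dE (p : PR k (ext e)) : ev e (dE k (ext e) p) = dE k e (ev e p) := by
  refine derivation_comm _ _ (ev e) (fun s => ?_) p
  obtain ⟨i, j⟩ := s
  rw [← xv_self k (ext e) ⟨i, j⟩, dE_xv]
  match i, j with
  | some i, j => rw [ev_xv, ev_xv, dE_xv]
  | none, ⟨0, _⟩ =>
    show ev e (xvar e) = dE k e (ev e (yv e))
    rw [ev_xvar, ev_yv, Derivation.map_one_eq_zero]
  | none, ⟨1, _⟩ =>
    show ev e (xv k (ext e) none 2) = dE k e (ev e (xvar e))
    rw [ev_xvar, map_zero, xv_of_le k (ext e) (i := none) (j := 2) le_rfl, map_zero]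

variable [CharZero k]

/-- The covariant attached to a highest weight vector. -/
lemma exists_invariant_lift {q : PR k e} {l : ℕ} (hE : dE k e q = 0)
    (hH : dH k e q = (l : k) • q) (hF : ((dF k e).toLinearMap ^ (l + 1)) q = 0) :
    ∃ Φ ∈ inv k (ext e), ev e Φ = q := by
  classical
  let f : ℕ → PR k (ext e) := fun j => inc e (((dF k e).toLinearMap ^ j) q)
  let c : ℕ → k := fun j => (-1) ^ j / (j.factorial : k)
  have hc : ∀ j : ℕ, c (j + 1) * ((j : k) + 1) = - c j := by
    intro j
    have h1 : ((j.factorial : k)) ≠ 0 := Nat.cast_ne_zero.2 (Nat.factorial_ne_zero j)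
    have h2 : ((j : k) + 1) ≠ 0 := Nat.cast_add_one_ne_zero j
    simp only [c, Nat.factorial_succ, Nat.cast_mul, Nat.cast_add, Nat.cast_one]
    field_simp
    ring
  have hHj : ∀ j : ℕ, dH k e (((dF k e).toLinearMap ^ j) q)
      = ((l : k) - 2 * j) • ((dF k e).toLinearMap ^ j) q := by
    intro j
    induction j with
    | zero => simpa using hH
    | succ j ih =>
      rw [pow_succ', Module.End.mul_apply, Derivation.coeFn_coe, hf_poly, ih,
        Derivation.map_smul]
      push_cast
      module
  have hEj : ∀ j : ℕ, dE k (ext e) (f j) = ((j : k) * ((l : k) - j + 1)) • f (j - 1) := by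
    intro j
    show dE k (ext e) (inc e _) = _ • inc e _
    rw [← inc_dE, ← map_smul (inc e)]
    congr 1
    induction j with
    | zero => simp [hE]
    | succ j ih =>
      rw [pow_succ', Module.End.mul_apply, Derivation.coeFn_coe, ef_poly, ih,
        Derivation.map_smul, hHj, Nat.add_sub_cancel]
      rcases j with _ | j
      · simp
      · rw [Nat.add_sub_cancel, ← Derivation.coeFn_coe,
          ← Module.End.mul_apply, ← pow_succ']
        push_cast
        module
  have hFj : ∀ j : ℕ, dF k (ext e) (f j) = f (j + 1) := by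
    intro j
    simp only [f, ← inc_dF]
    rw [pow_succ', Module.End.mul_apply]; rfl
  let term : ℕ → PR k (ext e) := fun j => f j * xvar e ^ j * yv e ^ (l - j)
  refine ⟨∑ j ∈ Finset.range (l + 1), c j • term j, ⟨?_, ?_⟩, ?_⟩
  · let A : ℕ → PR k (ext e) := fun j => ((j : k) * ((l : k) - j + 1) * c j) •
      (f (j - 1) * xvar e ^ j * yv e ^ (l - j))
    have hterm : ∀ j ∈ Finset.range (l + 1), dE k (ext e) (c j • term j) = A j - A (j + 1) := by
      intro j hj
      rw [Finset.mem_range] at hj
      simp only [term, A, Derivation.map_smul, Derivation.leibniz, Derivation.leibniz_pow, dE_xvar,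
        dE_yv, hEj, smul_zero, add_zero, Nat.add_sub_cancel]
      rcases Nat.lt_or_ge j l with hjl | hjl
      · obtain ⟨m, rfl⟩ : ∃ m, l = j + 1 + m := ⟨l - (j + 1), by omega⟩
        rw [show j + 1 + m - j = m + 1 by omega, show j + 1 + m - (j + 1) = m by omega,
          Nat.add_sub_cancel]
        simp only [smul_eq_mul, nsmul_eq_mul, smul_eq_C_mul, map_mul, map_add, map_sub,
          map_natCast, map_one, map_ofNat, Nat.cast_add, Nat.cast_one]
        have := congrArg (C : k → PR k (ext e)) (hc j)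
        simp only [map_mul, map_add, map_natCast, map_one, map_neg] at this
        linear_combination (f j * xvar e ^ (j + 1) * yv e ^ m * ((m : PR k (ext e)) + 1)) * this
      · obtain rfl : j = l := by omega
        simp only [Nat.sub_self, pow_zero, zero_smul, smul_zero, mul_one, Nat.cast_add,
          Nat.cast_one, smul_eq_mul, smul_eq_C_mul, map_mul, map_add, map_sub, map_natCast, map_one]
        ring
    rw [map_sum, Finset.sum_congr rfl hterm, Finset.sum_range_sub']
    simp [A]
  · let B : ℕ → PR k (ext e) := fun j => ((j : k) * c j) •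
      (f j * xvar e ^ (j - 1) * yv e ^ (l + 1 - j))
    have hterm : ∀ j ∈ Finset.range (l + 1), dF k (ext e) (c j • term j) = B j - B (j + 1) := by
      intro j hj
      rw [Finset.mem_range] at hj
      simp only [term, B, Derivation.map_smul, Derivation.leibniz, Derivation.leibniz_pow, dF_xvar,
        dF_yv, hFj, smul_zero, add_zero, zero_add, Nat.add_sub_cancel]
      rw [show l + 1 - (j + 1) = l - j by omega, show l + 1 - j = l - j + 1 by omega]
      simp only [smul_eq_mul, nsmul_eq_mul, smul_eq_C_mul, map_mul, map_add, map_natCast, map_one,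
        Nat.cast_add, Nat.cast_one, pow_succ]
      have := congrArg (C : k → PR k (ext e)) (hc j)
      simp only [map_mul, map_add, map_natCast, map_one, map_neg] at this
      linear_combination (f (j + 1) * xvar e ^ j * yv e ^ (l - j)) * this
    rw [map_sum, Finset.sum_congr rfl hterm, Finset.sum_range_sub']
    have : f (l + 1) = 0 := by simp only [f, hF, map_zero]
    simp [B, this]
  · rw [map_sum, Finset.sum_eq_single 0]
    · simp [c, term, f, ev_yv, ev_inc, map_smul]
    · intro j _ hj
      simp [term, ev_xvar, hj]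
    · simp

variable [Fintype ι]

lemma mem_map_of_ker {d : ℕ} {q : PR k e} (hq : q ∈ homogeneousSubmodule _ k d)
    (hE : dE k e q = 0) : q ∈ (inv k (ext e)).map (ev e) := by
  have hstab : ∀ v ∈ LinearMap.ker (eE k e d), eH k e d v ∈ LinearMap.ker (eE k e d) := by
    intro v hv
    rw [LinearMap.mem_ker] at hv ⊢
    have h := (isTriple k e d).he v
    rw [hv, map_zero, smul_zero, add_zero] at h
    exact h.symm
  have hdec := Submodule.inf_iSup_genEigenspace hstab 1
  rw [show (⨆ μ, (eH k e d).genEigenspace μ 1) = ⊤ from eigen_top k e d, inf_top_eq] at hdec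
  have hle : LinearMap.ker (eE k e d) ≤
      (Subalgebra.toSubmodule ((inv k (ext e)).map (ev e))).comap
        (homogeneousSubmodule (Σ i, Fin (e i)) k d).subtype := by
    rw [hdec]
    refine iSup_le fun μ v hv => ?_
    by_cases hne : v = 0
    · rw [hne]; exact zero_mem _
    have hv1 := LinearMap.mem_ker.1 hv.1
    have hv2 : eH k e d v = μ • v := Module.End.mem_eigenspace_iff.1 hv.2
    obtain ⟨l, rfl, hl⟩ := exists_nat_weight (isTriple k e d) hne hv1 hv2
    have h1 : dE k e (v : PR k e) = 0 := congrArg Subtype.val hv1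
    have h2 : dH k e (v : PR k e) = (l : k) • (v : PR k e) := congrArg Subtype.val hv2
    have h3 : ((dF k e).toLinearMap ^ (l + 1)) (v : PR k e) = 0 := by
      rw [← eFpow_coe, hl]; rfl
    obtain ⟨Φ, hΦ, hev⟩ := exists_invariant_lift e h1 h2 h3
    exact ⟨Φ, hΦ, hev⟩
  exact hle (x := ⟨q, hq⟩) (LinearMap.mem_ker.2 (Subtype.ext hE))

/-- The invariants of the extended action map onto the kernel. -/
theorem map_inv_eq : ∀ q : PR k e, q ∈ (inv k (ext e)).map (ev e) ↔ dE k e q = 0 := by
  intro q
  refine ⟨?_, fun h => ?_⟩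
  · rintro ⟨p, hp, rfl⟩
    show dE k e (ev e p) = 0
    rw [← ev_dE, hp.1, map_zero]
  · rw [← sum_homogeneousComponent q]
    refine sum_mem fun d _ => mem_map_of_ker e (homogeneousComponent_mem d q) ?_
    rw [← derivation_comp_homogeneousComponent k _ (fun s => ?_), h, map_zero]
    rw [← xv_self k e s, dE_xv]; exact xv_homogeneous k e _ _

/-- The kernel of the standard derivation is finitely generated. -/
theorem exists_fg_ker : ∃ S : Subalgebra k (PR k e), S.FG ∧ ∀ q, q ∈ S ↔ dE k e q = 0 :=
  ⟨(inv k (ext e)).map (ev e), (inv_fg k (ext e)).map _, map_inv_eq e⟩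

/-- Weitzenböck's theorem. -/
theorem weitzenboeck {n : ℕ} (M : Matrix (Fin n) (Fin n) k) (hM : IsNilpotent M) :
    ∃ S : Subalgebra k (MvPolynomial (Fin n) k), S.FG ∧ ∀ f : MvPolynomial (Fin n) k, f ∈ S ↔
      mkDerivation k (fun j : Fin n => ∑ i : Fin n, M i j • (X i : MvPolynomial (Fin n) k)) f = 0 := by
  classical
  set δ := mkDerivation k (fun j : Fin n => ∑ i : Fin n, M i j • (X i : MvPolynomial (Fin n) k))
  obtain ⟨d, e, b, hb⟩ := exists_jordan (Matrix.toLin' M) (Matrix.isNilpotent_toLin'_iff M |>.2 hM)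
  let L : (Fin n → k) →ₗ[k] MvPolynomial (Fin n) k := (Pi.basisFun k (Fin n)).constr k X
  let L' : (Fin n → k) →ₗ[k] PR k e := b.constr k X
  have hL : ∀ i, L (Pi.basisFun k (Fin n) i) = X i := fun i => Module.Basis.constr_basis _ _ _ i
  have hL' : ∀ s, L' (b s) = X s := fun s => Module.Basis.constr_basis _ _ _ s
  let ψ : PR k e →ₐ[k] MvPolynomial (Fin n) k := aeval fun s => L (b s)
  let ψ' : MvPolynomial (Fin n) k →ₐ[k] PR k e := aeval fun i => L' (Pi.basisFun k (Fin n) i)
  have h1 : ψ'.toLinearMap ∘ₗ L = L' := (Pi.basisFun k (Fin n)).ext fun i => by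
    rw [LinearMap.comp_apply, hL]; exact aeval_X _ _
  have h2 : ψ.toLinearMap ∘ₗ L' = L := b.ext fun s => by simp [hL', ψ]
  let Ψ : PR k e ≃ₐ[k] MvPolynomial (Fin n) k := AlgEquiv.ofAlgHom ψ ψ'
    (MvPolynomial.algHom_ext fun i => by
      show ψ (ψ' (X i)) = X i
      rw [show ψ' (X i) = L' (Pi.basisFun k (Fin n) i) from aeval_X _ _, ← hL i]
      exact LinearMap.congr_fun h2 _)
    (MvPolynomial.algHom_ext fun s => by
      show ψ' (ψ (X s)) = X s
      rw [show ψ (X s) = L (b s) from aeval_X _ _, ← hL' s]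
      exact LinearMap.congr_fun h1 _)
  have hδL : δ.toLinearMap ∘ₗ L = L ∘ₗ Matrix.toLin' M := by
    refine (Pi.basisFun k (Fin n)).ext fun j => ?_
    simp only [LinearMap.comp_apply, Derivation.coeFn_coe, hL, δ, mkDerivation_X]
    have : Matrix.toLin' M (Pi.basisFun k (Fin n) j) = ∑ i, M i j • Pi.basisFun k (Fin n) i := by
      ext i; simp [Pi.single_apply, Finset.sum_apply]
    rw [this, map_sum]
    simp only [map_smul, hL]
  have hψxv : ∀ i j, ψ (xv k e i j) = if h : j < e i then L (b ⟨i, ⟨j, h⟩⟩) else 0 := by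
    intro i j
    rw [xv]; split_ifs with h <;> simp [ψ]
  have hcomm : ∀ p, ψ (dE k e p) = δ (ψ p) := by
    refine derivation_comm _ _ ψ (fun s => ?_)
    rw [← xv_self k e s, dE_xv, hψxv, hψxv, dif_pos s.2.2]
    have := LinearMap.congr_fun hδL (b s)
    simp only [LinearMap.comp_apply, Derivation.coeFn_coe, Fin.eta, Sigma.eta] at this ⊢
    rw [this, hb s.1 s.2]
    split_ifs <;> simp
  obtain ⟨S, hS, hSiff⟩ := exists_fg_ker (k := k) e
  refine ⟨S.map ψ, hS.map ψ, fun f => ⟨?_, fun hf => ?_⟩⟩
  · rintro ⟨p, hp, rfl⟩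
    show δ (ψ p) = 0
    rw [← hcomm, (hSiff p).1 hp, map_zero]
  · refine ⟨Ψ.symm f, (hSiff _).2 (Ψ.injective ?_), Ψ.apply_symm_apply f⟩
    show ψ (dE k e (Ψ.symm f)) = ψ 0
    rw [hcomm, show ψ (Ψ.symm f) = f from Ψ.apply_symm_apply f, hf, map_zero]

end

end Groth.Agent.Weitz
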